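import Cfsg.Agent.H274.OT.CY
import Cfsg.Agent.H179.OT.F4

/-!
# S2539, part 5: `C_G(Y0) = D_F T` for `S_F = {±s}` and `S_F` of type `A₂`

* `perp_pair` : in `F₄`, `G₂` a root `≠ ±s` is not orthogonal to some root orthogonal to `s`;
* `perp_A2` : in `F₄` the roots orthogonal to all the roots orthogonal to an `A₂` are the roots of the `A₂`;
* `cent_Y0_pair`, `cent_Y0_A2` : `C_G(Y0) ≤ D_F T`; `Hr_le_DT_pair`, `Hr_le_DT_A2` : `H_r^g ≤ M_F` implies
  `H_r^g ≤ D_F T`.
-/

set_option autoImplicit false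

namespace Cfsg.Agent.H274.OT

open Cfsg Cfsg.Lie Cfsg.Lie.ChevalleyDatum
open Cfsg.Agent.ChevalleyStructure Cfsg.Agent.ChevalleyStructure.Elts Cfsg.Agent.ChevalleyStructure.RootVec
  Cfsg.Agent.ChevalleyStructure.RootVecTab
open Cfsg.Agent.H412.OT Cfsg.Agent.H3.OT Cfsg.Agent.H179.OT.F4

universe u

/-! ### tables -/

def exLT (f : ℕ → Bool) (n : ℕ) : Bool := Nat.rec false (fun i ih => cond (f i) true ih) n

theorem exLT_iff (f : ℕ → Bool) (n : ℕ) : exLT f n = true ↔ ∃ i < n, f i = true := by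
  induction n with
  | zero => simp [exLT]
  | succ n ih =>
    change cond (f n) true (exLT f n) = true ↔ _
    cases h : f n
    · rw [cond_false, ih]
      constructor
      · rintro ⟨i, hi, h1⟩
        exact ⟨i, by omega, h1⟩
      · rintro ⟨i, hi, h1⟩
        rcases Nat.lt_succ_iff_lt_or_eq.1 hi with h2 | rfl
        · exact ⟨i, h2, h1⟩
        · rw [h] at h1; exact absurd h1 (by decide)
    · rw [cond_true]
      exact ⟨fun _ => ⟨n, by omega, h⟩, fun _ => rfl⟩

def chkF : Bool :=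
  allLT (fun s => allLT (fun a => bif Nat.beq a s then true else bif Nat.beq (Nat.add a s) 47 then true else
    exLT (fun r => bif Nat.beq (t r s) 4 then !(Nat.beq (t r a) 4) else false) 48) 48) 48

theorem chkF_true : chkF = true := by decide +kernel

theorem neg47 : ∀ s < 48, chevF4.neg s + s = 47 := by decide +kernel

def isAdd (a b x : ℕ) : Bool := allLT (fun r => Nat.beq (Nat.add (t r x) 4) (Nat.add (t r a) (t r b))) 48

def isNegAdd (a b x : ℕ) : Bool := allLT (fun r => Nat.beq 12 (Nat.add (t r x) (Nat.add (t r a) (t r b)))) 48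

def chkA : Bool :=
  allLT (fun a => allLT (fun b => bif Nat.beq (t a b) 3 then bif Nat.beq (t b a) 3 then
    allLT (fun x => bif Nat.beq x a then true else bif Nat.beq (Nat.add x a) 47 then true else
      bif Nat.beq x b then true else bif Nat.beq (Nat.add x b) 47 then true else
      bif exLT (fun r => bif Nat.beq (t r a) 4 then bif Nat.beq (t r b) 4 then !(Nat.beq (t r x) 4)
        else false else false) 48 then true else bif isAdd a b x then true else isNegAdd a b x) 48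
    else true else true) 48) 48

theorem chkA_true : chkA = true := by decide +kernel

theorem perp_pair_F4 {s a : ℕ} (hs : s < 48) (ha : a < 48) (h1 : a ≠ s) (h2 : a ≠ chevF4.neg s) :
    ∃ r < 48, pr chevF4 r s = 0 ∧ pr chevF4 r a ≠ 0 := by
  have h := chkF_true
  rw [chkF, allLT_iff] at h
  have h3 := h s hs
  rw [allLT_iff] at h3
  have h4 := h3 a ha
  have e1 : Nat.beq a s = false := by rw [← Bool.not_eq_true, beq_iff]; exact h1
  have e2 : Nat.beq (Nat.add a s) 47 = false := by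
    rw [← Bool.not_eq_true, beq_iff]
    intro h5
    have h6 := neg47 s hs
    have h7 : a + s = 47 := h5
    omega
  rw [e1, e2, cond_false, cond_false, exLT_iff] at h4
  obtain ⟨r, hr, h5⟩ := h4
  rw [cond_iff, beq_iff] at h5
  refine ⟨r, hr, ?_, ?_⟩
  · rw [pr_eq_t hr hs, h5.1]; norm_num
  · rw [pr_eq_t hr ha]
    intro h6
    have h7 : t r a = 4 := by omega
    have h8 := h5.2
    rw [h7] at h8
    exact absurd h8 (by decide)

theorem perp_pair_G2 : ∀ s a : Fin 12, (a : ℕ) ≠ s → (a : ℕ) ≠ chevG2.neg s →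
    ∃ r : Fin 12, prK chevG2 r s = 0 ∧ prK chevG2 r a ≠ 0 := by decide +kernel

/-- in `F₄` and `G₂` only `±s` are orthogonal to all the roots orthogonal to `s` -/
theorem perp_pair {D : ChevalleyDatum} (hD : D = chevF4 ∨ D = chevG2) {s a : ℕ} (hs : s < D.nroots)
    (ha : a < D.nroots) (h1 : a ≠ s) (h2 : a ≠ D.neg s) : ∃ r < D.nroots, pr D r s = 0 ∧ pr D r a ≠ 0 := by
  rcases hD with rfl | rfl
  · exact perp_pair_F4 hs ha h1 h2
  · obtain ⟨r, h3, h4⟩ := perp_pair_G2 ⟨s, hs⟩ ⟨a, ha⟩ h1 h2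
    rw [prK_eq] at h3 h4
    exact ⟨r, r.2, h3, h4⟩

section Gen

variable {D : ChevalleyDatum}

theorem pr_neg_right' (hD : InList D) {r s : ℕ} (hr : r < D.nroots) (hs : s < D.nroots) :
    pr D r (D.neg s) = - pr D r s := by
  obtain ⟨l, M, hp⟩ := exists_isType hD
  have hW : Finite M.Group := Nodes.RGDChev.finite_W hp M.toCoxeterSystem
  rw [← cpr_vec' hp M.toCoxeterSystem hr (NPerm.neg_lt hD hs), ← cpr_vec' hp M.toCoxeterSystem hr hs,
    Nodes.RGDChev.vec_neg hp hs, Nodes.Coroot.cpr_neg _ _ _ (Nodes.RGDChev.isRoot_vec hp _ hr)]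

theorem eq_of_pr_right (hD : InList D) {x y : ℕ} (hx : x < D.nroots) (hy : y < D.nroots)
    (h : ∀ r < D.nroots, pr D r x = pr D r y) : x = y := by
  obtain ⟨l, M, hp⟩ := exists_isType hD
  have hW : Finite M.Group := Nodes.RGDChev.finite_W hp M.toCoxeterSystem
  refine Nodes.RGDChev.vec_inj hp hx hy (eq_of_cpr_two (cs := M.toCoxeterSystem) (h := hp.isCartan)
    (Nodes.RGDChev.isRoot_vec hp _ hx) (Nodes.RGDChev.isRoot_vec hp _ hy) ?_ ?_)
  · rw [cpr_vec' hp M.toCoxeterSystem hy hx, h y hy, pr_self hD hy]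
  · rw [cpr_vec' hp M.toCoxeterSystem hx hy, ← h x hx, pr_self hD hx]

end Gen

theorem hDF4 : InList chevF4 := by simp [InList]

/-- in `F₄` the roots orthogonal to all the roots orthogonal to an `A₂` are the roots of the `A₂` -/
theorem perp_A2 {a b c x : ℕ} (ha : a < 48) (hb : b < 48) (hc : c < 48) (hab : pr chevF4 a b = -1)
    (hba : pr chevF4 b a = -1) (hsum : ∀ r < 48, pr chevF4 r c = pr chevF4 r a + pr chevF4 r b) (hx : x < 48)
    (h1 : x ≠ a) (h2 : x ≠ b) (h3 : x ≠ c) (h4 : x ≠ chevF4.neg a) (h5 : x ≠ chevF4.neg b)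
    (h6 : x ≠ chevF4.neg c) : ∃ r < 48, pr chevF4 r a = 0 ∧ pr chevF4 r b = 0 ∧ pr chevF4 r x ≠ 0 := by
  have h := chkA_true
  rw [chkA, allLT_iff] at h
  have h7 := h a ha
  rw [allLT_iff] at h7
  have h8 := h7 b hb
  rw [pr_eq_t ha hb] at hab
  rw [pr_eq_t hb ha] at hba
  have e1 : Nat.beq (t a b) 3 = true := by rw [beq_iff]; omega
  have e2 : Nat.beq (t b a) 3 = true := by rw [beq_iff]; omega
  rw [e1, e2, cond_true, cond_true, allLT_iff] at h8
  have h9 := h8 x hx
  have na := neg47 a ha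
  have nb := neg47 b hb
  have e3 : Nat.beq x a = false := by rw [← Bool.not_eq_true, beq_iff]; exact h1
  have e4 : Nat.beq (Nat.add x a) 47 = false := by
    rw [← Bool.not_eq_true, beq_iff]
    intro h
    have h' : x + a = 47 := h
    omega
  have e5 : Nat.beq x b = false := by rw [← Bool.not_eq_true, beq_iff]; exact h2
  have e6 : Nat.beq (Nat.add x b) 47 = false := by
    rw [← Bool.not_eq_true, beq_iff]
    intro h
    have h' : x + b = 47 := h
    omega
  rw [e3, e4, e5, e6, cond_false, cond_false, cond_false, cond_false] at h9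
  by_cases h10 : exLT (fun r => bif Nat.beq (t r a) 4 then bif Nat.beq (t r b) 4 then !(Nat.beq (t r x) 4)
        else false else false) 48 = true
  · rw [exLT_iff] at h10
    obtain ⟨r, hr, h11⟩ := h10
    rw [cond_iff, cond_iff, beq_iff, beq_iff] at h11
    refine ⟨r, hr, ?_, ?_, ?_⟩
    · rw [pr_eq_t hr ha, h11.1]; norm_num
    · rw [pr_eq_t hr hb, h11.2.1]; norm_num
    · rw [pr_eq_t hr hx]
      intro h12
      have h13 : t r x = 4 := by omega
      have h14 := h11.2.2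
      rw [h13] at h14
      exact absurd h14 (by decide)
  · exfalso
    rw [Bool.not_eq_true] at h10
    rw [h10, cond_false] at h9
    by_cases h11 : isAdd a b x = true
    · rw [isAdd, allLT_iff] at h11
      apply h3
      refine eq_of_pr_right hDF4 hx hc fun r hr => ?_
      have h12 := h11 r hr
      rw [beq_iff] at h12
      have h13 : t r x + 4 = t r a + t r b := h12
      rw [hsum r hr, pr_eq_t hr hx, pr_eq_t hr ha, pr_eq_t hr hb]
      omega
    · rw [Bool.not_eq_true] at h11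
      rw [h11, cond_false, isNegAdd, allLT_iff] at h9
      apply h6
      refine eq_of_pr_right hDF4 hx (NPerm.neg_lt hDF4 hc) fun r hr => ?_
      have h12 := h9 r hr
      rw [beq_iff] at h12
      have h13 : 12 = t r x + (t r a + t r b) := h12
      rw [pr_neg_right' hDF4 hr hc, hsum r hr, pr_eq_t hr hx, pr_eq_t hr ha, pr_eq_t hr hb]
      omega

/-! ### the centraliser of `Y0` -/

variable {D : ChevalleyDatum} {K : Type u} [Field K] [Fintype K]

omit [Fintype K] in
theorem GS_SF (F : Subgroup (GL D.Idx K)) : GS D K (SF D K F) = DF D K F ⊔ D.diagonalSubgroup K := sup_comm _ _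

/-- `C_G(Y0) ≤ D_F T` if `S_F = {±s}` (`F₄`, `G₂`) -/
theorem cent_Y0_pair (hD : D = chevF4 ∨ D = chevG2) (hq : 13 ≤ Fintype.card K) {F : Subgroup (GL D.Idx K)}
    {s : ℕ} (hs : s < D.nroots) (hS : SF D K F = {s, D.neg s}) :
    Subgroup.centralizer (Y0 D K F : Set (GL D.Idx K)) ⊓ D.group K ≤ DF D K F ⊔ D.diagonalSubgroup K := by
  have hD' : InList D := by rcases hD with rfl | rfl <;> simp [InList]
  rw [Y0_eq, ← GS_SF]
  refine cent_YS hD' hq (fun r hr => hr.1) fun a ha haS => ?_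
  rw [hS] at haS
  obtain ⟨r, hr, h1, h2⟩ := perp_pair hD hs ha (fun e => haS (Or.inl e)) (fun e => haS (Or.inr e))
  refine ⟨r, ⟨hr, fun x hx => ?_⟩, h2⟩
  rw [hS] at hx
  rcases hx with rfl | rfl
  · exact h1
  · rw [pr_neg_right' hD' hr hs, h1, neg_zero]

/-- `C_G(Y0) ≤ D_F T` if `S_F` is an `A₂` in `F₄` -/
theorem cent_Y0_A2 (hq : 13 ≤ Fintype.card K) {F : Subgroup (GL chevF4.Idx K)} {a b c : ℕ} (ha : a < 48)
    (hb : b < 48) (hc : c < 48) (hab : pr chevF4 a b = -1) (hba : pr chevF4 b a = -1)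
    (hsum : ∀ r < 48, pr chevF4 r c = pr chevF4 r a + pr chevF4 r b)
    (hS : SF chevF4 K F = {a, b, c, chevF4.neg a, chevF4.neg b, chevF4.neg c}) :
    Subgroup.centralizer (Y0 chevF4 K F : Set (GL chevF4.Idx K)) ⊓ chevF4.group K ≤
      DF chevF4 K F ⊔ chevF4.diagonalSubgroup K := by
  rw [Y0_eq, ← GS_SF]
  refine cent_YS hDF4 hq (fun r hr => hr.1) fun x hx hxS => ?_
  rw [hS] at hxS
  simp only [Set.mem_insert_iff, Set.mem_singleton_iff, not_or] at hxS
  obtain ⟨n1, n2, n3, n4, n5, n6⟩ := hxS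
  obtain ⟨r, hr, h1, h2, h3⟩ := perp_A2 ha hb hc hab hba hsum hx n1 n2 n3 n4 n5 n6
  have h4 : pr chevF4 r c = 0 := by rw [hsum r hr, h1, h2, add_zero]
  refine ⟨r, ⟨hr, fun y hy => ?_⟩, h3⟩
  rw [hS] at hy
  simp only [Set.mem_insert_iff, Set.mem_singleton_iff] at hy
  rcases hy with rfl | rfl | rfl | rfl | rfl | rfl
  · exact h1
  · exact h2
  · exact h4
  · rw [pr_neg_right' hDF4 hr ha, h1, neg_zero]
  · rw [pr_neg_right' hDF4 hr hb, h2, neg_zero]
  · rw [pr_neg_right' hDF4 hr hc, h4, neg_zero]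

/-- **the LT step for `S_F = {±s}`** -/
theorem Hr_le_DT_pair {p : ℕ} (h : Hyp K p D) (hD : D = chevF4 ∨ D = chevG2) {F : Subgroup (GL D.Idx K)}
    (hFG : F ≤ D.group K) {s : ℕ} (hs : s < D.nroots) (hS : SF D K F = {s, D.neg s}) {r : ℕ}
    (hr : r < D.nroots) (hw : ∀ s < D.nroots, |pr D r s| ≤ 2) {g : GL D.Idx K}
    (hg : (Hr D K r).map (MulAut.conj g).toMonoidHom ≤ MF D K F) :
    (Hr D K r).map (MulAut.conj g).toMonoidHom ≤ DF D K F ⊔ D.diagonalSubgroup K :=
  le_DT_of_le_MF h hFG (cent_Y0_pair hD h.card hs hS) hr hw hg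

/-- **the LT step for `S_F` of type `A₂`** -/
theorem Hr_le_DT_A2 {p : ℕ} (h : Hyp K p chevF4) {F : Subgroup (GL chevF4.Idx K)}
    (hFG : F ≤ chevF4.group K) {a b c : ℕ} (ha : a < 48)
    (hb : b < 48) (hc : c < 48) (hab : pr chevF4 a b = -1) (hba : pr chevF4 b a = -1)
    (hsum : ∀ r < 48, pr chevF4 r c = pr chevF4 r a + pr chevF4 r b)
    (hS : SF chevF4 K F = {a, b, c, chevF4.neg a, chevF4.neg b, chevF4.neg c}) {r : ℕ}
    (hr : r < chevF4.nroots) (hw : ∀ s < chevF4.nroots, |pr chevF4 r s| ≤ 2) {g : GL chevF4.Idx K}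
    (hg : (Hr chevF4 K r).map (MulAut.conj g).toMonoidHom ≤ MF chevF4 K F) :
    (Hr chevF4 K r).map (MulAut.conj g).toMonoidHom ≤ DF chevF4 K F ⊔ chevF4.diagonalSubgroup K :=
  le_DT_of_le_MF h hFG (cent_Y0_A2 h.card ha hb hc hab hba hsum hS) hr hw hg

/-- windows in `F₄` -/
def chkW : Bool := allLT (fun r => allLT (fun s => bif Nat.ble 2 (t r s) then Nat.ble (t r s) 6 else false) 48) 48

theorem chkW_true : chkW = true := by decide +kernel

/-- all windows in `F₄` are `[-2, 2]` -/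
theorem window_F4 {r s : ℕ} (hr : r < 48) (hs : s < 48) : |pr chevF4 r s| ≤ 2 := by
  have h := chkW_true
  rw [chkW, allLT_iff] at h
  have h1 := h r hr
  rw [allLT_iff] at h1
  have h2 := h1 s hs
  rw [cond_iff] at h2
  have h3 : 2 ≤ t r s := Nat.le_of_ble_eq_true h2.1
  have h4 : t r s ≤ 6 := Nat.le_of_ble_eq_true h2.2
  rw [pr_eq_t hr hs, abs_le]
  constructor <;> omega

/-- long roots have windows `[-2, 2]` -/
theorem window_long {D : ChevalleyDatum} (hD : InList D) {r : ℕ} (hr : IsLong D r) {s : ℕ} (hs : s < D.nroots) :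
    |pr D r s| ≤ 2 := by
  by_cases h1 : s = r
  · rw [h1, pr_self hD hr.1]; norm_num
  by_cases h2 : s = D.neg r
  · rw [h2, pr_neg_right' hD hr.1 hr.1, pr_self hD hr.1]; norm_num
  · exact le_trans (hr.2 s hs h1 h2) (by norm_num)

end Cfsg.Agent.H274.OT
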