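import Cfsg.Agent.H274.OT.BT
import Cfsg.Agent.H428.OT.Lau

/-!
# S2539, part 5: the Laurent trick for subgroups `Y` of `T`

* `hG_eq_dco` : `h_r(c)` as a one-parameter group;
* `comm_of_norm` : `r` with `|⟨s, r^∨⟩| ≤ 2` for all `s`, `Y ≤ T`, `g H_r g⁻¹ ≤ N(Y)` : then `g H_r g⁻¹ ≤ C(Y)`;
* `Y0 D K F = T ∩ C(D_F)`, `MF_le_normalizer_Y0`, `comm_Y0_of_le_MF`, `le_DT_of_le_MF`.
-/

set_option autoImplicit false

namespace Cfsg.Agent.H274.OT

open Cfsg Cfsg.Lie Cfsg.Lie.ChevalleyDatum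
open Cfsg.Agent.ChevalleyStructure Cfsg.Agent.ChevalleyStructure.Elts
open Cfsg.Agent.H412.OT Cfsg.Agent.H428.OT

universe u

variable {D : ChevalleyDatum} {K : Type u} [Field K]

/-- the exponents of `h_r(c)` -/
def ex (D : ChevalleyDatum) (r : ℕ) : D.Idx → ℤ := Sum.elim (fun _ => 0) (fun s : Fin D.nroots => pr D r s)

theorem hG_eq_dco (hD : InList D) {r : ℕ} (hr : r < D.nroots) (c : Kˣ) :
    hG hD r (c : K) = dco (K := K) (ex D r) c := by
  apply Units.ext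
  rw [coe_hG_diag hD hr c.ne_zero, coe_dco]
  congr 1
  funext x
  rcases x with i | s
  · show (1 : K) = ((c ^ (0 : ℤ) : Kˣ) : K)
    rw [zpow_zero, Units.val_one]
  · show (c : K) ^ pr D r s = ((c ^ pr D r s : Kˣ) : K)
    rw [Units.val_zpow_eq_zpow_val]

theorem isDiagSub_of_le (hD : InList D) {Y : Subgroup (GL D.Idx K)} (hY : Y ≤ D.diagonalSubgroup K) :
    IsDiagSub Y := fun _ ht => ⟨_, coe_tor hD (hY ht)⟩

/-- **The Laurent trick for a subgroup `Y` of `T`.** -/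
theorem comm_of_norm [Fintype K] {p : ℕ} (h : Hyp K p D) {Y : Subgroup (GL D.Idx K)}
    (hY : Y ≤ D.diagonalSubgroup K) {r : ℕ} (hr : r < D.nroots) (hw : ∀ s < D.nroots, |pr D r s| ≤ 2)
    {g : GL D.Idx K}
    (hN : ∀ c : K, c ≠ 0 → g * hG h.inList r c * g⁻¹ ∈ Subgroup.normalizer (Y : Set (GL D.Idx K)))
    {c : K} (hc : c ≠ 0) {t : GL D.Idx K} (ht : t ∈ Y) :
    (g * hG h.inList r c * g⁻¹) * t = t * (g * hG h.inList r c * g⁻¹) := by
  have hq : 13 ≤ Fintype.card K := h.card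
  have h1 := lau (K := K) (T := Y) (isDiagSub_of_le h.inList hY) (a := -2) (D := 4) (s := 2)
    (fun d hd hd1 => by
      have h0 : d ≠ 0 := by
        rintro rfl
        have := Nat.eq_zero_of_zero_dvd hd
        omega
      omega) (by omega) (e := ex D r) (by
      rintro (i | s)
      · show (-2 : ℤ) ≤ 0 ∧ (0 : ℤ) ≤ -2 + (4 : ℕ)
        constructor <;> norm_num
      · have := abs_le.1 (hw s s.2)
        show (-2 : ℤ) ≤ pr D r s ∧ pr D r s ≤ -2 + (4 : ℕ)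
        constructor
        · exact this.1
        · have := this.2
          push_cast
          linarith) g (fun c => by
      rw [← hG_eq_dco h.inList hr]
      exact hN c c.ne_zero) (Units.mk0 c hc) t ht
  rw [← hG_eq_dco h.inList hr] at h1
  exact h1

theorem Hr_le_iff (hD : InList D) (r : ℕ) {g : GL D.Idx K} {H : Subgroup (GL D.Idx K)} :
    (Hr D K r).map (MulAut.conj g).toMonoidHom ≤ H ↔ ∀ c : K, c ≠ 0 → g * hG hD r c * g⁻¹ ∈ H := by
  constructor
  · intro h1 c hc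
    exact h1 ⟨_, hG_mem_Hr hD r hc, rfl⟩
  · intro h1
    rw [Subgroup.map_le_iff_le_comap]
    refine (Subgroup.closure_le _).2 ?_
    rintro x ⟨c, hc, hx⟩
    have e : x = hG hD r c := Units.ext (by rw [hx, coe_hG])
    rw [e]
    exact h1 c hc

/-- the same in terms of subgroups -/
theorem Hr_conj_le_centralizer [Fintype K] {p : ℕ} (h : Hyp K p D) {Y : Subgroup (GL D.Idx K)}
    (hY : Y ≤ D.diagonalSubgroup K) {r : ℕ} (hr : r < D.nroots) (hw : ∀ s < D.nroots, |pr D r s| ≤ 2)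
    {g : GL D.Idx K}
    (hN : (Hr D K r).map (MulAut.conj g).toMonoidHom ≤ Subgroup.normalizer (Y : Set (GL D.Idx K))) :
    (Hr D K r).map (MulAut.conj g).toMonoidHom ≤ Subgroup.centralizer (Y : Set (GL D.Idx K)) := by
  rw [Hr_le_iff h.inList] at hN ⊢
  intro c hc
  rw [Subgroup.mem_centralizer_iff]
  intro t ht
  exact (comm_of_norm h hY hr hw hN hc ht).symm

/-- `Y0 = C_T(D_F)` -/
def Y0 (D : ChevalleyDatum) (K : Type u) [Field K] (F : Subgroup (GL D.Idx K)) : Subgroup (GL D.Idx K) :=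
  D.diagonalSubgroup K ⊓ Subgroup.centralizer (DF D K F : Set (GL D.Idx K))

theorem Y0_le (F : Subgroup (GL D.Idx K)) : Y0 D K F ≤ D.diagonalSubgroup K := inf_le_left

theorem DF_le_centralizer_Y0 (F : Subgroup (GL D.Idx K)) :
    DF D K F ≤ Subgroup.centralizer (Y0 D K F : Set (GL D.Idx K)) := by
  intro d hd
  rw [Subgroup.mem_centralizer_iff]
  intro t ht
  exact ((Subgroup.mem_centralizer_iff.1 ht.2) d hd).symm

theorem MF_le_normalizer_Y0 [Fintype K] {p : ℕ} (h : Hyp K p D) {F : Subgroup (GL D.Idx K)}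
    (hFG : F ≤ D.group K) : MF D K F ≤ Subgroup.normalizer (Y0 D K F : Set (GL D.Idx K)) := by
  refine sup_le (le_trans (DF_le_centralizer_Y0 F) (Subgroup.centralizer_le_normalizer _)) ?_
  have key : ∀ g ∈ F ⊓ Subgroup.normalizer (D.diagonalSubgroup K : Set (GL D.Idx K)), ∀ t ∈ Y0 D K F,
      g * t * g⁻¹ ∈ Y0 D K F := by
    intro g hg t ht
    refine Subgroup.mem_inf.2 ⟨(Subgroup.mem_normalizer_iff.1 hg.2 t).1 ht.1, ?_⟩
    rw [Subgroup.mem_centralizer_iff]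
    intro d hd
    have h1 := norm_le_normalizer_DF h hFG (inv_mem hg)
    have h2 := (Subgroup.mem_normalizer_iff.1 h1 d).1 hd
    rw [inv_inv] at h2
    have h3 := (Subgroup.mem_centralizer_iff.1 ht.2) _ h2
    have e1 : d * (g * t * g⁻¹) = g * ((g⁻¹ * d * g) * t) * g⁻¹ := by group
    rw [e1, h3]
    group
  intro g hg
  rw [Subgroup.mem_normalizer_iff]
  intro t
  refine ⟨key g hg t, fun h1 => ?_⟩
  have h2 := key g⁻¹ (inv_mem hg) _ h1
  have e : g⁻¹ * (g * t * g⁻¹) * g⁻¹⁻¹ = t := by group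
  rwa [e] at h2

/-- **The LT step.** -/
theorem comm_Y0_of_le_MF [Fintype K] {p : ℕ} (h : Hyp K p D) {F : Subgroup (GL D.Idx K)}
    (hFG : F ≤ D.group K) {r : ℕ} (hr : r < D.nroots) (hw : ∀ s < D.nroots, |pr D r s| ≤ 2) {g : GL D.Idx K}
    (hg : (Hr D K r).map (MulAut.conj g).toMonoidHom ≤ MF D K F) :
    (Hr D K r).map (MulAut.conj g).toMonoidHom ≤ Subgroup.centralizer (Y0 D K F : Set (GL D.Idx K)) :=
  Hr_conj_le_centralizer h (Y0_le F) hr hw (le_trans hg (MF_le_normalizer_Y0 h hFG))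

/-- the LT step if `C_G(Y0) = D_F T` -/
theorem le_DT_of_le_MF [Fintype K] {p : ℕ} (h : Hyp K p D) {F : Subgroup (GL D.Idx K)}
    (hFG : F ≤ D.group K)
    (hC : Subgroup.centralizer (Y0 D K F : Set (GL D.Idx K)) ⊓ D.group K ≤ DF D K F ⊔ D.diagonalSubgroup K)
    {r : ℕ} (hr : r < D.nroots) (hw : ∀ s < D.nroots, |pr D r s| ≤ 2) {g : GL D.Idx K}
    (hg : (Hr D K r).map (MulAut.conj g).toMonoidHom ≤ MF D K F) :
    (Hr D K r).map (MulAut.conj g).toMonoidHom ≤ DF D K F ⊔ D.diagonalSubgroup K :=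
  le_trans (le_inf (comm_Y0_of_le_MF h hFG hr hw hg) (le_trans hg (le_trans (MF_le F) hFG))) hC

end Cfsg.Agent.H274.OT
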