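import Cfsg.Agent.H3.OT.Weyl
import Cfsg.Agent.H274.OT.LTY

/-!
# S2539, part 5: the centraliser of `Y = C_T(D_S)`

* `mem_of_fix` (RGD) : `k` over `w`, `w v = v` : `k ∈ ⟨T, X_x : x ⊥ v⟩`;
* `YS D K S = T ∩ C(⟨X_s : s ∈ S⟩)`; `mem_YS`, `Y0_eq`;
* `Perp D S r` : `r` is orthogonal to `S`; `Hr_le_YS`, `PsiZ_YS`, `perm_fix`;
* `cent_YS` : if every root outside `S` is not orthogonal to some root orthogonal to `S` then
  `C_G(YS) ≤ G(S) = ⟨T, X_s : s ∈ S⟩`.
-/

set_option autoImplicit false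
set_option linter.unusedSectionVars false

namespace Cfsg.Agent.H274.OT

section Abs

open CoxeterSystem Cfsg.Agent.ChevalleyStructure.CoxeterGeom Cfsg.Agent.Tits.Roots Cfsg.Agent.Tits.Core
  Cfsg.Agent.Tits.Exchange Cfsg.Agent.Nodes.Reps Cfsg.Agent.Nodes.BNOf Cfsg.Agent.Nodes.StabComb
  Cfsg.Agent.Nodes.Bruhat Cfsg.Agent.Nodes.OppDec Cfsg.Agent.Nodes.LeviDec Cfsg.Agent.Nodes.Coroot
  Cfsg.Agent.Nodes.Comb

variable {I W Y : Type*} [Fintype I] [DecidableEq I] [Group W] [Group Y] {M : CoxeterMatrix I}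
  {cs : CoxeterSystem M W} {A : I → I → ℤ} {h : IsCartan M A} {p : ℕ} {T : Subgroup Y} {n : I → Y}
  {X : (I → ℤ) → Subgroup Y}

/-- a representative of an element fixing `v` lies in the group of the roots orthogonal to `v` -/
theorem mem_of_fix [Finite W] (R : RGD cs h p T n X) {w : W} {k : Y} (hk : Rp cs R.nsys w k) {v : I → ℤ}
    (hv : rep cs h w v = v) : k ∈ T ⊔ RGD.Sup X {x | IsRoot cs h x ∧ cpr cs h v x = 0} := by
  obtain ⟨u, hu⟩ := exists_dom_rep cs h v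
  obtain ⟨g, hg⟩ := exists_rp cs R.nsys u
  have h1 : u * w * u⁻¹ ∈ WJ cs (orth cs h (rep cs h u v)) := by
    refine mem_WJ_of_rep hu ?_
    rw [rep_mul_apply, rep_mul_apply, rep_inv_apply, hv]
  have h2 : g * k * g⁻¹ ∈ LJ cs h T X (orth cs h (rep cs h u v)) := rp_mem_LJ R h1 ((hg.mul hk).mul hg.inv)
  have h3 : cj g⁻¹ (LJ cs h T X (orth cs h (rep cs h u v))) ≤
      T ⊔ RGD.Sup X {x | IsRoot cs h x ∧ cpr cs h v x = 0} := by
    unfold LJ
    rw [cj_sup]
    refine sup_le_sup (le_of_eq (mem_normalizer_iff_cj.1 hg.inv.mem_normalizer)) ?_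
    refine cj_Sup_le R hg.inv (fun x hx => hx.1) fun x hx => ⟨hx.1.act _, ?_⟩
    have e1 : cpr cs h v (rep cs h u⁻¹ x) = cpr cs h (rep cs h u v) x := by
      have := cpr_rep cs h u v (hx.1.act u⁻¹)
      rw [rep_apply_inv] at this
      exact this.symm
    rw [e1]
    obtain ⟨w', hw', j, hj, rfl⟩ := exists_of_mem_RootsJ hx
    have e2 := cpr_rep cs h w' (rep cs h u v) (isRoot_sr cs h j)
    rw [rep_of_mem_WJ_orth hw'] at e2
    rw [e2, cpr_sr, mem_orth.1 hj]
  refine h3 ?_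
  have e : k = g⁻¹ * (g * k * g⁻¹) * g⁻¹⁻¹ := by group
  rw [e]
  exact conj_mem_cj.2 h2

theorem abs_cpr_le [Finite W] {x y : I → ℤ} (hx : IsRoot cs h x) (hy : IsRoot cs h y) : |cpr cs h x y| ≤ 3 := by
  by_cases h1 : x = y
  · rw [h1, cpr_self cs h hy]; norm_num
  by_cases h2 : x = -y
  · rw [h2, cpr_neg cs h y hy, cpr_self cs h hy]; norm_num
  have h3 := Cfsg.Agent.KFacts.RgdSL.cpr_mul_lt hx hy h1 h2
  have := Fintype.ofFinite W
  rcases lt_trichotomy (cpr cs h x y) 0 with h4 | h4 | h4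
  · have h5 : cpr cs h y x < 0 := by
      rcases lt_trichotomy (cpr cs h y x) 0 with h6 | h6 | h6
      · exact h6
      · rw [(cpr_zero_comm cs h hy hx).1 h6] at h4; exact absurd h4 (lt_irrefl _)
      · rw [cpr_pos_iff cs h y hx, form_comm, ← cpr_pos_iff cs h x hy] at h6
        exact absurd h6 (not_lt.2 h4.le)
    rw [abs_le]
    constructor <;> nlinarith
  · rw [h4]; norm_num
  · have h5 : 0 < cpr cs h y x := by
      rw [cpr_pos_iff cs h y hx, form_comm, ← cpr_pos_iff cs h x hy]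
      exact h4
    rw [abs_le]
    constructor <;> nlinarith

theorem eq_of_cpr_two [Finite W] {x y : I → ℤ} (hx : IsRoot cs h x) (hy : IsRoot cs h y)
    (h1 : cpr cs h x y = 2) (h2 : cpr cs h y x = 2) : x = y := by
  by_contra h3
  by_cases h4 : x = -y
  · rw [h4, cpr_neg cs h y hy, cpr_self cs h hy] at h1
    norm_num at h1
  · have h5 := Cfsg.Agent.KFacts.RgdSL.cpr_mul_lt hx hy h3 h4
    rw [h1, h2] at h5
    norm_num at h5

end Abs

/-! ### balanced digits -/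

/-- balanced digits are unique -/
theorem digits_zero (d : ℕ → ℤ) (hd : ∀ i, |d i| ≤ 3) (n : ℕ) (h : ∑ i ∈ Finset.range n, 10 ^ i * d i = 0) :
    ∀ i < n, d i = 0 := by
  induction n generalizing d with
  | zero => intro i hi; omega
  | succ n ih =>
    have h1 : ∑ i ∈ Finset.range n, (10 : ℤ) ^ (i + 1) * d (i + 1) + 10 ^ 0 * d 0 = 0 := by
      rw [← Finset.sum_range_succ' (fun i => (10 : ℤ) ^ i * d i) n]
      exact h
    have h2 : ∑ i ∈ Finset.range n, (10 : ℤ) ^ (i + 1) * d (i + 1) =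
        10 * ∑ i ∈ Finset.range n, (10 : ℤ) ^ i * d (i + 1) := by
      rw [Finset.mul_sum]
      refine Finset.sum_congr rfl fun i _ => ?_
      rw [pow_succ]; ring
    rw [h2, pow_zero, one_mul] at h1
    have h3 := abs_le.1 (hd 0)
    have h4 : d 0 = 0 := by omega
    have h5 : ∑ i ∈ Finset.range n, (10 : ℤ) ^ i * d (i + 1) = 0 := by omega
    intro i hi
    rcases Nat.eq_zero_or_pos i with rfl | hpos
    · exact h4
    · obtain ⟨j, rfl⟩ := Nat.exists_eq_succ_of_ne_zero hpos.ne'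
      exact ih (fun i => d (i + 1)) (fun i => hd (i + 1)) h5 j (by omega)

open Cfsg Cfsg.Lie Cfsg.Lie.ChevalleyDatum
open Cfsg.Agent.ChevalleyStructure Cfsg.Agent.ChevalleyStructure.Elts Cfsg.Agent.ChevalleyStructure.NPerm
open Cfsg.Agent.H412.OT Cfsg.Agent.H3.OT

universe u

variable {D : ChevalleyDatum} {K : Type u} [Field K]

theorem abs_pr_le (hD : InList D) {r s : ℕ} (hr : r < D.nroots) (hs : s < D.nroots) : |pr D r s| ≤ 3 := by
  obtain ⟨l, M, hp⟩ := exists_isType hD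
  have hW : Finite M.Group := Nodes.RGDChev.finite_W hp M.toCoxeterSystem
  rw [← cpr_vec' hp M.toCoxeterSystem hr hs]
  exact abs_cpr_le (Nodes.RGDChev.isRoot_vec hp _ hs) (Nodes.RGDChev.isRoot_vec hp _ hr)

theorem eq_of_pr (hD : InList D) {r s : ℕ} (hr : r < D.nroots) (hs : s < D.nroots)
    (h : ∀ x < D.nroots, pr D r x = pr D s x) : r = s := by
  obtain ⟨l, M, hp⟩ := exists_isType hD
  have hW : Finite M.Group := Nodes.RGDChev.finite_W hp M.toCoxeterSystem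
  refine Nodes.RGDChev.vec_inj hp hr hs (eq_of_cpr_two (cs := M.toCoxeterSystem) (h := hp.isCartan)
    (Nodes.RGDChev.isRoot_vec hp _ hr) (Nodes.RGDChev.isRoot_vec hp _ hs) ?_ ?_)
  · rw [cpr_vec' hp M.toCoxeterSystem hs hr, ← h r hr, pr_self hD hr]
  · rw [cpr_vec' hp M.toCoxeterSystem hr hs, h s hs, pr_self hD hs]

/-- small exponents are determined -/
theorem zpow_inj_small [Fintype K] (hq : 13 ≤ Fintype.card K) {a b : ℤ} (hab : |a - b| ≤ 11)
    (h : ∀ c : K, c ≠ 0 → c ^ a = c ^ b) : a = b := by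
  classical
  obtain ⟨γ, hγ⟩ := IsCyclic.exists_generator (α := Kˣ)
  have ho : orderOf γ = Fintype.card K - 1 := by
    rw [orderOf_eq_card_of_forall_mem_zpowers hγ, Nat.card_eq_fintype_card, Fintype.card_units]
  have h1 := h (γ : K) γ.ne_zero
  have h2 : γ ^ a = γ ^ b := by
    apply Units.ext
    rw [Units.val_zpow_eq_zpow_val, Units.val_zpow_eq_zpow_val]
    exact h1
  have h3 : γ ^ (a - b) = 1 := by rw [zpow_sub, h2, mul_inv_cancel]
  have h4 : ((Fintype.card K - 1 : ℕ) : ℤ) ∣ a - b := by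
    rw [← ho]
    exact orderOf_dvd_iff_zpow_eq_one.2 h3
  have h5 : |a - b| < ((Fintype.card K - 1 : ℕ) : ℤ) := by
    have : (12 : ℤ) ≤ ((Fintype.card K - 1 : ℕ) : ℤ) := by
      have : 12 ≤ Fintype.card K - 1 := by omega
      exact_mod_cast this
    linarith
  have h6 := Int.eq_zero_of_abs_lt_dvd h4 h5
  omega

/-- `YS D K S = C_T(⟨X_s : s ∈ S⟩)` -/
def YS (D : ChevalleyDatum) (K : Type u) [Field K] (S : Set ℕ) : Subgroup (GL D.Idx K) :=
  D.diagonalSubgroup K ⊓ Subgroup.centralizer ((⨆ r ∈ S, D.rootSubgroup K r : Subgroup (GL D.Idx K)) :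
    Set (GL D.Idx K))

theorem Y0_eq (F : Subgroup (GL D.Idx K)) : Y0 D K F = YS D K (SF D K F) := rfl

theorem YS_le (S : Set ℕ) : YS D K S ≤ D.diagonalSubgroup K := inf_le_left

theorem mem_YS (hD : InList D) {S : Set ℕ} (hS : S ⊆ {r | r < D.nroots}) {t : GL D.Idx K} :
    t ∈ YS D K S ↔ t ∈ D.diagonalSubgroup K ∧ ∀ s ∈ S, chi D K t s = 1 := by
  constructor
  · rintro ⟨ht, hc⟩
    refine ⟨ht, fun s hs => ?_⟩
    have h1 : (xG hD s 1 : GL D.Idx K) ∈ (⨆ r ∈ S, D.rootSubgroup K r : Subgroup (GL D.Idx K)) :=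
      (le_iSup₂ (f := fun r (_ : r ∈ S) => D.rootSubgroup K r) s hs) (xG_mem_rootSubgroup hD s 1)
    have h2 := Subgroup.mem_centralizer_iff.1 hc _ h1
    have h3 := tor_conj_xG hD ht (hS hs) (1 : K)
    rw [← h2, mul_inv_cancel_right] at h3
    have h4 := xG_injective hD (hS hs) h3
    rw [mul_one] at h4
    exact h4.symm
  · rintro ⟨ht, hc⟩
    refine ⟨ht, ?_⟩
    have h1 : (⨆ r ∈ S, D.rootSubgroup K r : Subgroup (GL D.Idx K)) ≤
        Subgroup.centralizer ({t} : Set (GL D.Idx K)) := by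
      refine iSup₂_le fun s hs x hx => ?_
      obtain ⟨a, rfl⟩ := (mem_rootSubgroup_iff hD s x).1 hx
      rw [Subgroup.mem_centralizer_singleton_iff]
      have h3 := tor_conj_xG hD ht (hS hs) a
      rw [hc s hs, one_mul, mul_inv_eq_iff_eq_mul] at h3
      exact h3.symm
    refine Subgroup.mem_centralizer_iff.2 fun x hx => ?_
    exact Subgroup.mem_centralizer_singleton_iff.1 (h1 hx)

/-- `r` is a root orthogonal to `S` -/
def Perp (D : ChevalleyDatum) (S : Set ℕ) (r : ℕ) : Prop := r < D.nroots ∧ ∀ s ∈ S, pr D r s = 0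

theorem hG_mem_YS (hD : InList D) {S : Set ℕ} (hS : S ⊆ {r | r < D.nroots}) {r : ℕ} (hr : Perp D S r)
    {c : K} (hc : c ≠ 0) : hG hD r c ∈ YS D K S := by
  refine (mem_YS hD hS).2 ⟨hG_mem hD hr.1 hc, fun s hs => ?_⟩
  rw [chi_hG hD hr.1 (hS hs) hc, hr.2 s hs, zpow_zero]

theorem Hr_le_YS (hD : InList D) {S : Set ℕ} (hS : S ⊆ {r | r < D.nroots}) {r : ℕ} (hr : Perp D S r) :
    Hr D K r ≤ YS D K S := by
  refine (Subgroup.closure_le _).2 ?_
  rintro g ⟨c, hc, hg⟩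
  have e : g = hG hD r c := Units.ext (by rw [hg, coe_hG])
  rw [e]
  exact hG_mem_YS hD hS hr hc

/-- the roots trivial on `YS` -/
theorem PsiZ_YS [Fintype K] (hD : InList D) (hq : 13 ≤ Fintype.card K) {S : Set ℕ} (hS : S ⊆ {r | r < D.nroots})
    (hT : ∀ a < D.nroots, a ∉ S → ∃ r, Perp D S r ∧ pr D r a ≠ 0) : PsiZ D K (YS D K S) ⊆ S := by
  rintro a ⟨ha, h1⟩
  by_contra haS
  obtain ⟨r, hr, hra⟩ := hT a ha haS
  apply hra
  refine zpow_inj_small (K := K) hq (b := 0) ?_ fun c hc => ?_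
  · rw [sub_zero]
    exact le_trans (abs_pr_le hD hr.1 ha) (by norm_num)
  · rw [zpow_zero, ← chi_hG hD hr.1 ha hc]
    exact h1 _ (hG_mem_YS hD hS hr hc)

/-- an element of `N` centralising `YS` fixes the roots orthogonal to `S` -/
theorem perm_fix [Fintype K] (hD : InList D) (hq : 13 ≤ Fintype.card K) {S : Set ℕ}
    (hS : S ⊆ {r | r < D.nroots}) (n : ↥(D.monomialSubgroup K))
    (hn : (n : GL D.Idx K) ∈ Subgroup.centralizer (YS D K S : Set (GL D.Idx K))) {r : Fin D.nroots}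
    (hr : Perp D S r) : permHom hD K n r = r := by
  have h1 : ∀ s : Fin D.nroots, pr D r (permHom hD K n s) = pr D r s := by
    intro s
    refine zpow_inj_small (K := K) hq ?_ fun c hc => ?_
    · have e1 := abs_le.1 (abs_pr_le hD r.2 (permHom hD K n s).2)
      have e2 := abs_le.1 (abs_pr_le hD r.2 s.2)
      rw [abs_le]
      constructor <;> linarith
    · have h2 := chi_perm hD n (hG_mem hD r.2 hc) s
      have h3 : (n : GL D.Idx K) * hG hD r c * (n : GL D.Idx K)⁻¹ = hG hD r c := by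
        rw [mul_inv_eq_iff_eq_mul]
        exact (Subgroup.mem_centralizer_iff.1 hn _ (hG_mem_YS hD hS hr hc)).symm
      rw [h3, chi_hG hD r.2 (permHom hD K n s).2 hc, chi_hG hD r.2 s.2 hc] at h2
      exact h2
  refine Fin.ext (eq_of_pr hD (permHom hD K n r).2 r.2 fun x hx => ?_)
  obtain ⟨s, hs⟩ : ∃ s, permHom hD K n s = ⟨x, hx⟩ := (permHom hD K n).surjective _
  have h2 := pr_perm hD n r s
  rw [← h1 s, hs] at h2
  exact h2

/-- every element of `N` represents an element of the Weyl group -/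
theorem mono_le_NN {l : ℕ} {M : CoxeterMatrix (Fin l)} (hp : Nodes.RGDChev.IsType D l M)
    {W : Type*} [Group W] (cs : CoxeterSystem M W) :
    D.monomialSubgroup K ≤ Nodes.Reps.NN cs (Nodes.RGDChev.nsys (K := K) hp) := by
  rw [monomial_eq hp.inList K]
  refine sup_le ((Subgroup.closure_le _).2 ?_) fun t ht => ⟨1, Nodes.Reps.rp_of_mem ht⟩
  rintro g ⟨i, hi, rfl⟩
  have hi' : i < l := by rw [← hp.rank_eq]; exact hi
  exact ⟨cs.simple ⟨i, hi'⟩, Nodes.Reps.rp_simple cs (Nodes.RGDChev.nsys (K := K) hp) ⟨i, hi'⟩⟩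

theorem exists_rp_rep [Finite K] {l : ℕ} {M : CoxeterMatrix (Fin l)} (hp : Nodes.RGDChev.IsType D l M)
    {W : Type*} [Group W] (cs : CoxeterSystem M W) (p : ℕ) [Fact p.Prime] [CharP K p]
    (n : ↥(D.monomialSubgroup K)) :
    ∃ w : W, Nodes.Reps.Rp cs (Nodes.RGDChev.rgd_GL (K := K) hp cs p).nsys w (n : GL D.Idx K) ∧
      ∀ r : Fin D.nroots, Nodes.RGDChev.vec D l ((permHom hp.inList K n r : Fin D.nroots) : ℕ) =
        ChevalleyStructure.CoxeterGeom.rep cs hp.isCartan w (Nodes.RGDChev.vec D l r) := by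
  obtain ⟨w, hw⟩ := mono_le_NN (K := K) hp cs n.2
  refine ⟨w, hw, fun r => ?_⟩
  have hx := Nodes.RGDChev.isRoot_vec hp cs r.2
  have h1 := (Nodes.RGDChev.rgd_GL (K := K) hp cs p).conj_rp hw hx
  obtain ⟨s, hs, e⟩ := (Nodes.RGDChev.isRoot_iff hp cs _).1 (hx.act w)
  rw [← e, Nodes.RGDChev.XV_vec hp K r.2, Nodes.RGDChev.XV_vec hp K hs] at h1
  have h2 := conj_permHom hp.inList n r
  have h3 : D.rootSubgroup K ((permHom hp.inList K n r : Fin D.nroots) : ℕ) = D.rootSubgroup K s := by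
    rw [← h1, ← h2]
    rfl
  rw [rootSubgroup_injective hp.inList K (Fin.is_lt _) hs h3, e]

/-- an element of `N` centralising `YS` lies in `G(S)` -/
theorem mono_mem_GS [Fintype K] (hD : InList D) (hq : 13 ≤ Fintype.card K) {S : Set ℕ}
    (hS : S ⊆ {r | r < D.nroots}) (hT : ∀ a < D.nroots, a ∉ S → ∃ r, Perp D S r ∧ pr D r a ≠ 0)
    (n : ↥(D.monomialSubgroup K))
    (hn : (n : GL D.Idx K) ∈ Subgroup.centralizer (YS D K S : Set (GL D.Idx K))) :
    (n : GL D.Idx K) ∈ GS D K S := by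
  classical
  obtain ⟨l, M, hp⟩ := exists_isType hD
  let cs : CoxeterSystem M M.Group := M.toCoxeterSystem
  have hW : Finite M.Group := Nodes.RGDChev.finite_W hp cs
  obtain ⟨p, hcp⟩ := CharP.exists K
  have hpf : Fact p.Prime := ⟨CharP.char_is_prime K p⟩
  obtain ⟨w, hw, hrep⟩ := exists_rp_rep hp cs p n
  obtain ⟨v, hv⟩ : ∃ v : Fin l → ℤ, v = ∑ r : Fin D.nroots, (if Perp D S r then (10 : ℤ) ^ (r : ℕ) else 0) •
    Nodes.RGDChev.vec D l r := ⟨_, rfl⟩
  have hfix : ChevalleyStructure.CoxeterGeom.rep cs hp.isCartan w v = v := by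
    rw [hv, map_sum]
    refine Finset.sum_congr rfl fun r _ => ?_
    rw [map_smul, ← hrep]
    by_cases hr : Perp D S r
    · rw [perm_fix hD hq hS n hn hr]
    · rw [if_neg hr, zero_smul, zero_smul]
  have h1 := mem_of_fix (Nodes.RGDChev.rgd_GL (K := K) hp cs p) hw hfix
  refine (sup_le (tor_le_GS S) (Nodes.BNOf.RGD.Sup_le fun x hx => ?_) : _ ≤ GS D K S) h1
  obtain ⟨hx1, hx2⟩ := hx
  obtain ⟨s, hs, rfl⟩ := (Nodes.RGDChev.isRoot_iff hp cs x).1 hx1
  rw [Nodes.RGDChev.XV_vec hp K hs]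
  refine root_le_GS ?_
  by_contra hsS
  obtain ⟨r, hr, hrs⟩ := hT s hs hsS
  -- `⟨v, s^∨⟩ = 0` as a sum of digits
  have h2 : ∀ t : Finset (Fin D.nroots), Nodes.Coroot.cpr cs hp.isCartan
      (∑ r ∈ t, (if Perp D S r then (10 : ℤ) ^ (r : ℕ) else 0) • Nodes.RGDChev.vec D l r) (Nodes.RGDChev.vec D l s) =
      ∑ r ∈ t, (10 : ℤ) ^ (r : ℕ) * (if Perp D S r then pr D s r else 0) := by
    intro t
    induction t using Finset.induction_on with
    | empty =>
      rw [Finset.sum_empty, Finset.sum_empty]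
      have := Nodes.Coroot.cpr_smul cs hp.isCartan 0 (0 : Fin l → ℤ) hx1
      rwa [zero_smul, zero_mul] at this
    | insert a t ha ih =>
      rw [Finset.sum_insert ha, Finset.sum_insert ha, Nodes.Coroot.cpr_add cs hp.isCartan _ _ hx1, ih,
        Nodes.Coroot.cpr_smul cs hp.isCartan _ _ hx1, cpr_vec' hp cs hs a.2]
      by_cases h3 : Perp D S a
      · rw [if_pos h3, if_pos h3]
      · rw [if_neg h3, if_neg h3, zero_mul, mul_zero]
  have h3 : ∑ i ∈ Finset.range D.nroots, (10 : ℤ) ^ i * (if Perp D S i then pr D s i else 0) = 0 := by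
    rw [Finset.sum_range, ← h2 Finset.univ, ← hv, hx2]
  have h4 := digits_zero (fun i => if Perp D S i then pr D s i else 0) (fun i => by
    show |if Perp D S i then pr D s i else 0| ≤ 3
    by_cases h5 : Perp D S i
    · rw [if_pos h5]
      exact abs_pr_le hD hs h5.1
    · rw [if_neg h5]; norm_num) _ h3 r hr.1
  change (if Perp D S r then pr D s r else 0) = 0 at h4
  rw [if_pos hr, ← cpr_vec' hp cs hs hr.1, Nodes.Coroot.cpr_zero_comm cs hp.isCartan
    (Nodes.RGDChev.isRoot_vec hp cs hr.1) (Nodes.RGDChev.isRoot_vec hp cs hs), cpr_vec' hp cs hr.1 hs] at h4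
  exact hrs h4

/-- **`C_G(C_T(D_S)) = G(S)`** if `S` is the set of the roots orthogonal to all roots orthogonal to `S`. -/
theorem cent_YS [Fintype K] (hD : InList D) (hq : 13 ≤ Fintype.card K) {S : Set ℕ}
    (hS : S ⊆ {r | r < D.nroots}) (hT : ∀ a < D.nroots, a ∉ S → ∃ r, Perp D S r ∧ pr D r a ≠ 0) :
    Subgroup.centralizer (YS D K S : Set (GL D.Idx K)) ⊓ D.group K ≤ GS D K S := by
  rintro g ⟨hc, hg⟩
  obtain ⟨u, hu, k, hk, hkc, v, hv, rfl⟩ := cent_form hD (YS_le S) hg hc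
  have h1 : GS D K (PsiZ D K (YS D K S)) ≤ GS D K S :=
    sup_le_sup_left (biSup_mono (PsiZ_YS hD hq hS hT)) _
  exact mul_mem (mul_mem (h1 hu) (mono_mem_GS hD hq hS hT ⟨k, hk⟩ hkc)) (h1 hv)

end Cfsg.Agent.H274.OT
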