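import Mathlib

/-!
# The frame of S2539 (piece 0.4), abstract form

`X : ι → Subgroup Y` a family of subgroups, `T` a subgroup.
* `DD X F` : the join of the `X r ≤ F`;
* `Good T X F` : `F = D_F N_F(T)` (in the form `F ≤ DD X F ⊔ (F ⊓ N(T))`);
* `Frame p T G X F` : the properties of a non-good subgroup of least order;
* `exists_frame`.
-/

set_option autoImplicit false

namespace Cfsg.Agent.H274.OT

variable {Y ι : Type*} [Group Y]

/-- the join of the members of `X` contained in `F` -/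
def DD (X : ι → Subgroup Y) (F : Subgroup Y) : Subgroup Y := ⨆ r : {r : ι // X r ≤ F}, X r.1

theorem DD_le (X : ι → Subgroup Y) (F : Subgroup Y) : DD X F ≤ F := iSup_le fun r => r.2

theorem le_DD {X : ι → Subgroup Y} {F : Subgroup Y} {r : ι} (hr : X r ≤ F) : X r ≤ DD X F :=
  le_iSup (fun r : {r : ι // X r ≤ F} => X r.1) ⟨r, hr⟩

theorem DD_mono (X : ι → Subgroup Y) {F F' : Subgroup Y} (hF : F ≤ F') : DD X F ≤ DD X F' :=
  iSup_le fun r => le_DD (le_trans r.2 hF)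

/-- the subgroup `D_F N_F(T)` -/
def MM (T : Subgroup Y) (X : ι → Subgroup Y) (F : Subgroup Y) : Subgroup Y :=
  DD X F ⊔ (F ⊓ Subgroup.normalizer (T : Set Y))

theorem MM_le (T : Subgroup Y) (X : ι → Subgroup Y) (F : Subgroup Y) : MM T X F ≤ F :=
  sup_le (DD_le X F) inf_le_left

theorem MM_mono (T : Subgroup Y) (X : ι → Subgroup Y) {F F' : Subgroup Y} (hF : F ≤ F') :
    MM T X F ≤ MM T X F' := sup_le_sup (DD_mono X hF) (inf_le_inf_right _ hF)

/-- `F = D_F N_F(T)` -/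
def Good (T : Subgroup Y) (X : ι → Subgroup Y) (F : Subgroup Y) : Prop := F ≤ MM T X F

theorem T_le_MM {T : Subgroup Y} (X : ι → Subgroup Y) {F : Subgroup Y} (hT : T ≤ F) : T ≤ MM T X F :=
  le_trans (le_inf hT Subgroup.le_normalizer) le_sup_right

/-- `N_F(T)` normalises `D_F` if it permutes the `X r` -/
theorem normalizer_le_normalizer_DD {T : Subgroup Y} {X : ι → Subgroup Y} {F : Subgroup Y}
    (hperm : ∀ g ∈ F ⊓ Subgroup.normalizer (T : Set Y), ∀ r, ∃ s, (X r).map (MulAut.conj g).toMonoidHom = X s) :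
    F ⊓ Subgroup.normalizer (T : Set Y) ≤ Subgroup.normalizer (DD X F : Set Y) := by
  have key : ∀ g ∈ F ⊓ Subgroup.normalizer (T : Set Y), ∀ x ∈ DD X F, g * x * g⁻¹ ∈ DD X F := by
    intro g hg x hx
    have h1 : DD X F ≤ (DD X F).comap (MulAut.conj g).toMonoidHom := by
      refine iSup_le ?_
      rintro ⟨r, hr⟩
      rw [← Subgroup.map_le_iff_le_comap]
      obtain ⟨s, hs⟩ := hperm g hg r
      change (X r).map (MulAut.conj g).toMonoidHom ≤ _
      rw [hs]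
      refine le_DD ?_
      rw [← hs]
      rintro _ ⟨y, hy, rfl⟩
      exact F.mul_mem (F.mul_mem hg.1 (hr hy)) (F.inv_mem hg.1)
    have h2 := h1 hx
    rw [Subgroup.mem_comap] at h2
    exact h2
  intro g hg
  rw [Subgroup.mem_normalizer_iff]
  intro x
  refine ⟨key g hg x, fun h1 => ?_⟩
  have h2 := key g⁻¹ (inv_mem hg) _ h1
  have e : g⁻¹ * (g * x * g⁻¹) * g⁻¹⁻¹ = x := by group
  rwa [e] at h2

/-- elements of `D_F N_F(T)` are products -/
theorem mem_MM {T : Subgroup Y} {X : ι → Subgroup Y} {F : Subgroup Y}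
    (hperm : ∀ g ∈ F ⊓ Subgroup.normalizer (T : Set Y), ∀ r, ∃ s, (X r).map (MulAut.conj g).toMonoidHom = X s)
    {x : Y} (hx : x ∈ MM T X F) :
    ∃ d ∈ DD X F, ∃ m ∈ F ⊓ Subgroup.normalizer (T : Set Y), x = d * m := by
  have h1 : x ∈ ((DD X F ⊔ (F ⊓ Subgroup.normalizer (T : Set Y)) : Subgroup Y) : Set Y) := hx
  rw [Subgroup.coe_mul_of_right_le_normalizer_left _ _ (normalizer_le_normalizer_DD hperm), Set.mem_mul] at h1
  obtain ⟨d, hd, m, hm, e⟩ := h1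
  exact ⟨d, hd, m, hm, e.symm⟩

/-- the properties of a non-good subgroup `F` of least order between `T` and `G` -/
structure Frame (p : ℕ) (T G : Subgroup Y) (X : ι → Subgroup Y) (F : Subgroup Y) : Prop where
  T_le : T ≤ F
  le_G : F ≤ G
  not_good : ¬ Good T X F
  /-- proper subgroups of `F` containing `T` are good -/
  min : ∀ F₁, T ≤ F₁ → F₁ < F → Good T X F₁
  /-- proper subgroups of `F` containing `T` lie in `M` -/
  le_M : ∀ F₁, T ≤ F₁ → F₁ < F → F₁ ≤ MM T X F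
  /-- `O_p(F) = 1` -/
  Op : ∀ Q, Q ≤ F → IsPGroup p ↥Q → F ≤ Subgroup.normalizer (Q : Set Y) → Q = ⊥
  /-- local subgroups -/
  local_le : ∀ Q, Q ≤ F → IsPGroup p ↥Q → Q ≠ ⊥ → T ≤ Subgroup.normalizer (Q : Set Y) →
    F ⊓ Subgroup.normalizer (Q : Set Y) ≤ MM T X F

theorem Frame.M_lt {p : ℕ} {T G : Subgroup Y} {X : ι → Subgroup Y} {F : Subgroup Y} (hF : Frame p T G X F) :
    MM T X F < F :=
  lt_of_le_of_ne (MM_le T X F) fun e => hF.not_good (by unfold Good; rw [e])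

/-- a subgroup containing `T` and something outside `M` is `F` -/
theorem Frame.eq_of_not_le {p : ℕ} {T G : Subgroup Y} {X : ι → Subgroup Y} {F : Subgroup Y} (hF : Frame p T G X F)
    {F₁ : Subgroup Y} (hT : T ≤ F₁) (h1 : F₁ ≤ F) (hn : ¬ F₁ ≤ MM T X F) : F₁ = F := by
  by_contra hne
  exact hn (hF.le_M F₁ hT (lt_of_le_of_ne h1 hne))

/-- **the frame.** `hloc` : the Borel–Tits input for subgroups `F` with `O_p(F) ≠ 1`. -/
theorem exists_frame [Finite Y] {p : ℕ} {T G : Subgroup Y} {X : ι → Subgroup Y}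
    (hloc : ∀ F, T ≤ F → F ≤ G → ∀ Q, Q ≤ F → IsPGroup p ↥Q → Q ≠ ⊥ → F ≤ Subgroup.normalizer (Q : Set Y) →
      ∃ V L : Subgroup Y, V ≤ DD X F ∧ T ≤ L ∧ L ≤ F ∧ L ≠ F ∧ F ≤ V ⊔ L)
    (hbad : ∃ F, T ≤ F ∧ F ≤ G ∧ ¬ Good T X F) : ∃ F, Frame p T G X F := by
  classical
  have hne : ∃ k, ∃ F : Subgroup Y, T ≤ F ∧ F ≤ G ∧ ¬ Good T X F ∧ Nat.card F = k := by
    obtain ⟨F, h1, h2, h3⟩ := hbad
    exact ⟨_, F, h1, h2, h3, rfl⟩
  obtain ⟨F, hTF, hFG, hng, hcard⟩ := Nat.find_spec hne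
  have hmin : ∀ F₁ : Subgroup Y, T ≤ F₁ → F₁ < F → Good T X F₁ := by
    intro F₁ h1 h2
    by_contra h3
    have h4 : Nat.card F₁ < Nat.card F := by
      refine lt_of_le_of_ne (Nat.card_le_card_of_injective (Subgroup.inclusion h2.le)
        (Subgroup.inclusion_injective h2.le)) fun h5 => ?_
      exact h2.ne (Subgroup.eq_of_le_of_card_ge h2.le (le_of_eq h5.symm))
    rw [hcard] at h4
    exact Nat.find_min hne h4 ⟨F₁, h1, le_trans h2.le hFG, h3, rfl⟩
  have hM : ∀ F₁ : Subgroup Y, T ≤ F₁ → F₁ < F → F₁ ≤ MM T X F := fun F₁ h1 h2 =>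
    le_trans (hmin F₁ h1 h2) (MM_mono T X h2.le)
  have hOp : ∀ Q, Q ≤ F → IsPGroup p ↥Q → F ≤ Subgroup.normalizer (Q : Set Y) → Q = ⊥ := by
    intro Q hQF hQ hN
    by_contra hQ1
    obtain ⟨V, L, hV, hTL, hLF, hLne, hle⟩ := hloc F hTF hFG Q hQF hQ hQ1 hN
    apply hng
    refine le_trans hle (sup_le (le_trans hV le_sup_left) (hM L hTL (lt_of_le_of_ne hLF hLne)))
  refine ⟨F, hTF, hFG, hng, hmin, hM, hOp, ?_⟩
  intro Q hQF hQ hQ1 hTN
  refine hM _ (le_inf hTF hTN) (lt_of_le_of_ne inf_le_left fun e => hQ1 (hOp Q hQF hQ ?_))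
  rw [← e]
  exact inf_le_right

end Cfsg.Agent.H274.OT
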