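import Mathlib
import Cfsg.Agent.Nodes.LeviDec

/-!
# Parabolic subgroups containing the torus (S2539, piece 0.4, lemma P)

For root group data with finite `W` in which `T` fixes no nontrivial element of `U`:
* `split` : `Sup (Inv w) = Sup A * Sup B` whenever `Inv w ⊆ A ∪ B`;
* `exists_min` : minimal representatives of `w W_J`;
* `par_of_torus` : if `g ∈ GG` and `T ≤ cj g (PJ J)` then `g = k b` with `k` over some `w` and `b ∈ PJ J`.
-/

set_option autoImplicit false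
set_option linter.unusedSectionVars false

namespace Cfsg.Agent.H274.OT

open CoxeterSystem Cfsg.Agent.ChevalleyStructure.CoxeterGeom Cfsg.Agent.Tits.Roots Cfsg.Agent.Tits.Core
  Cfsg.Agent.Tits.Exchange Cfsg.Agent.Nodes.Reps Cfsg.Agent.Nodes.BNOf Cfsg.Agent.Nodes.StabComb
  Cfsg.Agent.Nodes.Bruhat Cfsg.Agent.Nodes.OppDec Cfsg.Agent.Nodes.LeviDec

variable {I W Y : Type*} [Fintype I] [DecidableEq I] [Group W] [Group Y] {M : CoxeterMatrix I}
  {cs : CoxeterSystem M W} {A : I → I → ℤ} {h : IsCartan M A} {p : ℕ} {T : Subgroup Y} {n : I → Y}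
  {X : (I → ℤ) → Subgroup Y}

/-- minimal representatives: `w = v u`, `u ∈ W_J`, `v` maps the positive roots of `J` to positive roots -/
theorem exists_min (cs : CoxeterSystem M W) (h : IsCartan M A) (J : Set I) (w : W) :
    ∃ v, ∃ u ∈ WJ cs J, w = v * u ∧ ∀ x ∈ PosJ cs h J, 0 ≤ rep cs h v x := by
  classical
  have hne : ∃ k, ∃ u ∈ WJ cs J, cs.length (w * u) = k := ⟨_, 1, one_mem _, rfl⟩
  obtain ⟨u, hu, hlen⟩ := Nat.find_spec hne
  have hmin : ∀ x ∈ WJ cs J, cs.length (w * u) ≤ cs.length (w * u * x) := by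
    intro x hx
    rw [hlen]
    exact Nat.find_min' hne ⟨u * x, mul_mem hu hx, by rw [mul_assoc]⟩
  refine ⟨w * u, u⁻¹, inv_mem hu, by group, ?_⟩
  have h1 : ∀ j ∈ J, 0 ≤ rep cs h (w * u) (sr j) := by
    intro j hj
    refine nonneg_of_lt cs h _ j ?_
    have h2 := hmin _ (simple_mem_WJ cs hj)
    have h3 := cs.length_mul_simple (w * u) j
    omega
  intro x hx
  have h2 : x = ∑ k, x k • sr k := by
    funext j
    simp [Finset.sum_apply, sr, Pi.single_apply]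
  rw [h2, map_sum]
  refine Finset.sum_nonneg fun k _ => ?_
  rw [map_smul]
  intro j
  rw [Pi.smul_apply, smul_eq_mul]
  by_cases hk : k ∈ J
  · exact mul_nonneg (hx.2.1 k) (h1 k hk j)
  · rw [hx.2.2 k hk, zero_mul]
    exact le_refl _

variable (R : RGD cs h p T n X)

include R

/-- factorisation of the join over an inversion set along any covering -/
theorem split (w : W) : ∀ (S S' : Set (I → ℤ)), (∀ x ∈ S, IsRoot cs h x) → (∀ x ∈ S', IsRoot cs h x) →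
    RGD.Inv cs h w ⊆ S ∪ S' → ∀ x ∈ RGD.Sup X (RGD.Inv cs h w),
      ∃ a ∈ RGD.Sup X S, ∃ b ∈ RGD.Sup X S', x = a * b := by
  induction hn : cs.length w using Nat.strong_induction_on generalizing w with
  | _ k ih =>
  intro S S' hS hS' hI x hx
  by_cases h1 : w = 1
  · subst h1
    have : RGD.Sup X (RGD.Inv cs h (1 : W)) = ⊥ := by
      rw [RGD.inv_one_eq, eq_bot_iff]
      exact RGD.Sup_le (fun z hz => absurd hz (by simp))
    rw [this, Subgroup.mem_bot] at hx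
    exact ⟨1, one_mem _, 1, one_mem _, by rw [hx, one_mul]⟩
  obtain ⟨i, hi⟩ : ∃ i, cs.IsLeftDescent w i := cs.exists_leftDescent_of_ne_one h1
  have hlt : cs.length (cs.simple i * w) < cs.length w := hi
  have hneg : rep cs h w⁻¹ (sr i) ≤ 0 := by
    refine nonpos_of_lt cs h w⁻¹ i ?_
    rw [cs.length_inv, ← cs.length_inv (w⁻¹ * cs.simple i), mul_inv_rev, inv_inv, cs.inv_simple]
    exact hlt
  have hmem : sr i ∈ RGD.Inv cs h w := (RGD.mem_inv_iff hneg).2 (Or.inl rfl)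
  have hinv : ∀ x ∈ RGD.Inv cs h w, IsRoot cs h x ∧ 0 ≤ x := fun x hx => ⟨hx.1, hx.2.1⟩
  have hc : ∀ y ∈ RGD.Inv cs h w, y ≠ sr i → ∀ z, Btwn cs h (sr i) y z → z ∈ RGD.Inv cs h w ∧ z ≠ sr i := by
    intro y hy hyi z hz
    refine ⟨⟨hz.1, RGD.nonneg_of_btwn (sr_nonneg i) hy.2.1 hz, RGD.nonpos_of_btwn hneg hy.2.2 (hz.act w⁻¹)⟩, ?_⟩
    exact RGD.ne_sr_of_btwn (sr_nonneg i) hy.1 hy.2.1 hyi hz
  have hnorm : X (sr i) ≤ Subgroup.normalizer (RGD.Sup X (RGD.Inv cs h w \ {sr i}) : Set Y) :=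
    R.X_le_normalizer_diff hinv (isRoot_sr cs h i) (sr_nonneg i) hc
  -- `x = r u = u r'`
  obtain ⟨r, hr, u, hu, e⟩ := exists_mul R hinv hmem (fun y hy hyi z hz => (hc y hy hyi z hz).1) hx
  -- the remaining part is conjugate by `n i`
  have hle : ∀ r ∈ RGD.Sup X (RGD.Inv cs h w \ {sr i}), (n i)⁻¹ * r * n i ∈
      RGD.Sup X (RGD.Inv cs h (cs.simple i * w)) := by
    intro r hr
    refine conj_mem_Sup' R (rp_simple cs R.nsys i) (fun x hx => hx.1.1) (fun x hx => ?_) hr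
    rw [cs.inv_simple]
    exact ((RGD.mem_inv_iff hneg).1 hx.1).resolve_left hx.2
  have hsimp : ∀ x : I → ℤ, rep cs h (cs.simple i) (rep cs h (cs.simple i) x) = x := by
    intro x
    rw [← rep_mul_apply, simple_mul_simple_self, map_one, Module.End.one_apply]
  -- the claim for the remaining part
  have key : ∀ r ∈ RGD.Sup X (RGD.Inv cs h w \ {sr i}), ∃ a ∈ RGD.Sup X S, ∃ b ∈ RGD.Sup X S', r = a * b := by
    intro r hr
    obtain ⟨a, ha, b, hb, e1⟩ := ih _ (hn ▸ hlt) (cs.simple i * w) rfl (rep cs h (cs.simple i) '' S)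
      (rep cs h (cs.simple i) '' S') (by rintro _ ⟨x, hx, rfl⟩; exact (hS x hx).act _)
      (by rintro _ ⟨x, hx, rfl⟩; exact (hS' x hx).act _) (by
        intro x hx
        have h2 : rep cs h (cs.simple i) x ∈ RGD.Inv cs h w := by
          refine (RGD.mem_inv_iff hneg).2 (Or.inr ?_)
          rw [hsimp]; exact hx
        rcases hI h2 with h3 | h3
        · exact Or.inl ⟨_, h3, hsimp x⟩
        · exact Or.inr ⟨_, h3, hsimp x⟩) _ (hle r hr)
    refine ⟨n i * a * (n i)⁻¹, ?_, n i * b * (n i)⁻¹, ?_, ?_⟩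
    · refine conj_mem_Sup R (rp_simple cs R.nsys i) (by rintro _ ⟨x, hx, rfl⟩; exact (hS x hx).act _) ?_ ha
      rintro _ ⟨x, hx, rfl⟩
      rw [hsimp]; exact hx
    · refine conj_mem_Sup R (rp_simple cs R.nsys i) (by rintro _ ⟨x, hx, rfl⟩; exact (hS' x hx).act _) ?_ hb
      rintro _ ⟨x, hx, rfl⟩
      rw [hsimp]; exact hx
    · have : r = n i * ((n i)⁻¹ * r * n i) * (n i)⁻¹ := by group
      rw [this, e1]; group
  rcases hI hmem with hA | hB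
  · -- `x = u (u⁻¹ r u)`
    have hr' : u⁻¹ * r * u ∈ RGD.Sup X (RGD.Inv cs h w \ {sr i}) := by
      have h2 := mem_normalizer_iff_cj.1 (hnorm (inv_mem hu))
      have h3 : u⁻¹ * r * u⁻¹⁻¹ ∈ cj u⁻¹ (RGD.Sup X (RGD.Inv cs h w \ {sr i})) := conj_mem_cj.2 hr
      rwa [h2, inv_inv] at h3
    obtain ⟨a, ha, b, hb, e1⟩ := key _ hr'
    refine ⟨u * a, mul_mem (RGD.le_Sup (X := X) hA hu) ha, b, hb, ?_⟩
    rw [e, mul_assoc u, ← e1]; group
  · obtain ⟨a, ha, b, hb, e1⟩ := key r hr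
    exact ⟨a, ha, b * u, mul_mem hb (RGD.le_Sup (X := X) hB hu), by rw [e, e1, mul_assoc]⟩

/-- factorisation of `U` along any covering of the positive roots -/
theorem splitU [Finite W] (S S' : Set (I → ℤ)) (hS : ∀ x ∈ S, IsRoot cs h x) (hS' : ∀ x ∈ S', IsRoot cs h x)
    (hI : RGD.Pos cs h ⊆ S ∪ S') {x : Y} (hx : x ∈ RGD.Sup X (RGD.Pos cs h)) :
    ∃ a ∈ RGD.Sup X S, ∃ b ∈ RGD.Sup X S', x = a * b := by
  obtain ⟨w, hw⟩ := RGD.exists_inv_eq_pos (cs := cs) (h := h)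
  rw [← hw] at hI hx
  exact split R w S S' hS hS' hI x hx

/-- **Lemma P.** If `T` has no nontrivial fixed element in `U` then the conjugates of `P_J` containing `T`
are the conjugates under `N`. -/
theorem par_of_torus [Finite W]
    (hT : ∀ u ∈ RGD.Sup X (RGD.Pos cs h), (∀ t ∈ T, t * u = u * t) → u = 1)
    {J : Set I} {g : Y} (hg : g ∈ GG cs h T X) (hle : T ≤ cj g (PJ cs h T X J)) :
    ∃ w k, Rp cs R.nsys w k ∧ k⁻¹ * g ∈ PJ cs h T X J := by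
  obtain ⟨w, b₁, hb₁, k, hk, b₂, hb₂, rfl⟩ := (mem_GG R).1 hg
  -- `b₁ = u t`
  obtain ⟨t, ht, u', hu', e⟩ := R.mem_B.1 (inv_mem hb₁)
  have hb₁' : b₁ = u'⁻¹ * t⁻¹ := by
    rw [← inv_inv b₁, e]; group
  set u := u'⁻¹ with hudef
  have hu : u ∈ RGD.Sup X (RGD.Pos cs h) := inv_mem hu'
  -- `w = v z`
  obtain ⟨v, z, hz, rfl, hv⟩ := exists_min cs h J w
  obtain ⟨kz, hkz⟩ := exists_rp cs R.nsys z
  have hkzP : kz ∈ PJ cs h T X J := LJ_le_PJ (rp_mem_LJ R hz hkz)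
  set kv := t⁻¹ * k * kz⁻¹ with hkv
  have hkvr : Rp cs R.nsys v kv := by
    have h1 := ((rp_of_mem (cs := cs) (hN := R.nsys) (inv_mem ht)).mul hk).mul hkz.inv
    have h2 : 1 * (v * z) * z⁻¹ = v := by group
    rwa [h2] at h1
  -- `u = a b`
  obtain ⟨a, ha, b, hb, e1⟩ := splitU R (RGD.Inv cs h v) {x | IsRoot cs h x ∧ 0 ≤ x ∧ 0 ≤ rep cs h v⁻¹ x}
    (fun x hx => hx.1) (fun x hx => hx.1) (by
      intro x hx
      by_cases h1 : 0 ≤ rep cs h v⁻¹ x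
      · exact Or.inr ⟨hx.1, hx.2, h1⟩
      · exact Or.inl ⟨hx.1, hx.2, neg_nonneg.1 (((hx.1.act v⁻¹).not_nonneg_iff_neg).1 h1)⟩) hu
  have hbP : kv⁻¹ * b * kv ∈ PJ cs h T X J := by
    refine B_le_PJ (RGD.U_le_B (conj_mem_Sup' R hkvr (S' := RGD.Pos cs h) (fun x hx => hx.1) ?_ hb))
    intro x hx
    exact ⟨hx.1.act _, hx.2.2⟩
  have eg : b₁ * k * b₂ = a * kv * ((kv⁻¹ * b * kv) * kz * b₂) := by
    rw [hb₁', e1, hkv]; group
  have htail : (kv⁻¹ * b * kv) * kz * b₂ ∈ PJ cs h T X J :=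
    mul_mem (mul_mem hbP hkzP) (B_le_PJ hb₂)
  have hTn : ∀ t ∈ T, kv⁻¹ * t * kv ∈ T := by
    intro t ht
    have h1 := mem_normalizer_iff_cj.1 hkvr.inv.mem_normalizer
    have h2 : kv⁻¹ * t * kv⁻¹⁻¹ ∈ cj kv⁻¹ T := conj_mem_cj.2 ht
    rwa [h1, inv_inv] at h2
  have ha1 : a = 1 := by
    refine hT a (RGD.Sup_mono (S := RGD.Inv cs h v) (S' := RGD.Pos cs h) (fun x hx => ⟨hx.1, hx.2.1⟩) ha) ?_
    intro t ht
    -- `t⁻¹ a⁻¹ t a` is in `kv P kv⁻¹ ∩ Sup (Inv v)`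
    have h1 : t ∈ cj (b₁ * k * b₂) (PJ cs h T X J) := hle ht
    rw [eg, cj_mul, cj_eq_of_mem htail, mem_cj] at h1
    have h2 : kv⁻¹ * t⁻¹ * kv ∈ PJ cs h T X J := B_le_PJ (RGD.T_le_B (hTn _ (inv_mem ht)))
    have h3 : kv⁻¹ * (t⁻¹ * (a⁻¹ * t * a)) * kv ∈ PJ cs h T X J := by
      have e3 : kv⁻¹ * (t⁻¹ * (a⁻¹ * t * a)) * kv = (kv⁻¹ * t⁻¹ * kv) * ((a * kv)⁻¹ * t * (a * kv)) := by group
      rw [e3]
      exact mul_mem h2 h1
    have h4 : t⁻¹ * (a⁻¹ * t * a) ∈ RGD.Sup X (RGD.Inv cs h v) := by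
      have h5 : T ≤ Subgroup.normalizer (RGD.Sup X (RGD.Inv cs h v) : Set Y) := R.T_le_normalizer fun _ hx => hx.1
      have h6 := mem_normalizer_iff_cj.1 (h5 (inv_mem ht))
      have h7 : t⁻¹ * a⁻¹ * t⁻¹⁻¹ ∈ cj t⁻¹ (RGD.Sup X (RGD.Inv cs h v)) := conj_mem_cj.2 (inv_mem ha)
      rw [h6, inv_inv] at h7
      have e4 : t⁻¹ * (a⁻¹ * t * a) = (t⁻¹ * a⁻¹ * t) * a := by group
      rw [e4]
      exact mul_mem h7 ha
    have h5 : kv⁻¹ * (t⁻¹ * (a⁻¹ * t * a)) * kv ∈ VNJ cs h X J := by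
      refine conj_mem_Sup' R hkvr (fun x hx => hx.1) (fun x hx => ?_) h4
      -- `-v⁻¹ x` is a positive root outside `J`
      change -rep cs h v⁻¹ x ∈ NotJ cs h J
      have hr : IsRoot cs h (-rep cs h v⁻¹ x) := (hx.1.act v⁻¹).neg
      have h0 : 0 ≤ -rep cs h v⁻¹ x := neg_nonneg.2 hx.2.2
      rcases mem_PosJ_or_NotJ J hr h0 with h6 | h6
      · exfalso
        have h7 := hv _ h6
        rw [map_neg, ← rep_mul_apply, mul_inv_cancel, map_one, Module.End.one_apply] at h7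
        exact hx.1.not_pos_neg hx.2.1 (neg_nonneg.1 h7)
      · exact h6
    have h6 := eq_one_of_mem_VNJ_of_mem_PJ R h5 h3
    have h7 : t⁻¹ * (a⁻¹ * t * a) = 1 := by
      have e5 : t⁻¹ * (a⁻¹ * t * a) = kv * (kv⁻¹ * (t⁻¹ * (a⁻¹ * t * a)) * kv) * kv⁻¹ := by group
      rw [e5, h6]; group
    have h8 : a * t = t * a := by
      have e6 : t * a = a * t * (t⁻¹ * (a⁻¹ * t * a)) := by group
      rw [e6, h7, mul_one]
    exact h8.symm
  refine ⟨v, kv, hkvr, ?_⟩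
  have e7 : kv⁻¹ * (b₁ * k * b₂) = (kv⁻¹ * b * kv) * kz * b₂ := by
    rw [eg, ha1]; group
  rw [e7]
  exact htail

end Cfsg.Agent.H274.OT
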